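import Mathlib
import Cfsg.Agent.AC.Defs
import Cfsg.Agent.NF.MA
import Cfsg.Agent.GT.PGroupChain
import Cfsg.Agent.GT.CoprimeGen

/-! An involution with a large centralizer that inverts two independent elements of `O₃(H)`
is of extraspecial type. -/

set_option autoImplicit false
set_option linter.unusedSectionVars false

namespace Cfsg.Agent.AC

open Cfsg Cfsg.Agent.GT Cfsg.Agent.Loc Cfsg.Agent.Loc.Mss Cfsg.Agent.Loc.PU Cfsg.Agent.Loc.Blk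
  Subgroup Cfsg.Agent.NF
open scoped commutatorElement

variable {G : Type*} [Group G] [Finite G]

namespace MD

theorem mem_cz {x v : G} : v ∈ 𝐂[zpowers x] ↔ x * v = v * x :=
  ⟨fun h => mem_cent.1 h x (mem_zpowers x), fun h => mem_cent.2 (by
    rintro _ ⟨i, rfl⟩
    exact (Commute.zpow_left h i).eq)⟩

theorem cj_cz (g x : G) {U : Subgroup G} (hg : g ∈ 𝐍[U]) :
    cj(g, U ⊓ 𝐂[zpowers x]) = U ⊓ 𝐂[zpowers (g * x * g⁻¹)] := by
  rw [cj_inf, cj_cent, cj_of_norm hg, MonoidHom.map_zpowers]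
  rfl

theorem nz {g x : G} (h : x * g = g * x) : g ∈ 𝐍[zpowers x] := cent_le_norm _ (mem_cz.2 h)

theorem n_inf {g : G} {A B : Subgroup G} (hA : g ∈ 𝐍[A]) (hB : g ∈ 𝐍[B]) : g ∈ 𝐍[A ⊓ B] :=
  norm_inf (zpowers_le.2 hA) (zpowers_le.2 hB) (mem_zpowers g)

theorem n_comm {g : G} {A B : Subgroup G} (hA : g ∈ 𝐍[A]) (hB : g ∈ 𝐍[B]) : g ∈ 𝐍[⁅A, B⁆] :=
  norm_comm (zpowers_le.2 hA) (zpowers_le.2 hB) (mem_zpowers g)

theorem n_cent {g : G} {A : Subgroup G} (hA : g ∈ 𝐍[A]) : g ∈ 𝐍[𝐂[A]] :=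
  norm_cent (zpowers_le.2 hA) (mem_zpowers g)

theorem n_cz {g x : G} {U : Subgroup G} (hU : g ∈ 𝐍[U]) (h : x * g = g * x) : g ∈ 𝐍[U ⊓ 𝐂[zpowers x]] :=
  n_inf hU (n_cent (nz h))

theorem of_sq {z v : G} (h3 : z ^ 3 = 1) (h : z * z * v = v * (z * z)) : z * v = v * z := by
  have e : z = z * z * (z * z) := by
    calc z = z ^ 3 * z := by rw [h3, one_mul]
      _ = _ := by simp only [pow_succ, pow_zero, one_mul, mul_assoc]
  have c : Commute (z * z) v := h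
  rw [e]
  exact (c.mul_left c).eq

/-- An inverted element of order three centralizes the groups it normalizes in the centralizer. -/
theorem cenI {X : Subgroup G} {t z : G} (hz : z ∈ 𝐍[X]) (hX : X ≤ 𝐂[zpowers t]) (i : t * z * t⁻¹ = z⁻¹)
    (h3 : z ^ 3 = 1) : z ∈ 𝐂[X] := mem_cent.2 fun v hv => by
  have h1 := mem_cz.1 (hX hv)
  have h2 := mem_cz.1 (hX (conj_mem_of_norm hz hv))
  refine (of_sq h3 ?_).symm
  have h4 : z * v * z⁻¹ = z⁻¹ * v * z := by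
    calc z * v * z⁻¹ = t * (z * v * z⁻¹) * t⁻¹ := by rw [h2]; group
      _ = (t * z * t⁻¹) * (t * v * t⁻¹) * (t * z * t⁻¹)⁻¹ := by group
      _ = z⁻¹ * v * z := by rw [i, h1]; group
  calc z * z * v = z * (z * v * z⁻¹) * z := by group
    _ = v * (z * z) := by rw [h4]; group

theorem mem_three {c g : G} (h3 : c ^ 3 = 1) (hg : g ∈ zpowers c) : g = 1 ∨ g = c ∨ g = c⁻¹ := by
  obtain ⟨i, rfl⟩ := hg
  have e : c ^ (3 : ℤ) = 1 := by exact_mod_cast h3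
  have k : c ^ i = c ^ (i % 3) := zpow_eq_zpow_emod i e
  show c ^ i = 1 ∨ c ^ i = c ∨ c ^ i = c⁻¹
  rw [k]
  have : i % 3 = 0 ∨ i % 3 = 1 ∨ i % 3 = 2 := by omega
  rcases this with h | h | h <;> rw [h]
  · simp
  · simp
  · refine Or.inr (Or.inr (eq_inv_of_mul_eq_one_left ?_))
    rw [← zpow_add_one]
    exact e

section mod

variable {V : Subgroup G} (e2 : E2 V) {c : G} (hc : c ∈ 𝐍[V]) (c3 : c ^ 3 = 1)
include e2

theorem mc : IsMulCommutative V := ⟨⟨fun a b => Subtype.ext (e2.comm a.2 b.2)⟩⟩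

theorem nle {A B : Subgroup G} (hA : A ≤ V) (hB : B ≤ V) : A ≤ 𝐍[B] :=
  norm_of_cent ((hA.trans e2.le_cent).trans (cent_anti hB))

include c3

theorem cop : (Nat.card (zpowers c)).Coprime (Nat.card V) := by
  have : Fact (Nat.Prime 2) := ⟨Nat.prime_two⟩
  obtain ⟨n, hn⟩ := IsPGroup.iff_card.1 e2.pg
  rw [hn, Nat.card_zpowers]
  exact Nat.Coprime.pow_right n (Nat.Coprime.coprime_dvd_left (orderOf_dvd_of_pow_eq_one c3) (by norm_num))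

include hc

theorem fix_bot {w : G} (hw : w ∈ ⁅V, zpowers c⁆) (h : c * w = w * c) : w = 1 := by
  have := CopAct.commutator_inf_centralizer_eq_bot (mc e2) (zpowers_le.2 hc) (cop e2 c3)
  exact mem_bot.1 (this ▸ mem_inf.2 ⟨hw, mem_cz.2 h⟩)

theorem dec {v : G} (hv : v ∈ V) : ∃ w ∈ ⁅V, zpowers c⁆, ∃ a ∈ V ⊓ 𝐂[zpowers c], w * a = v :=
  CopAct.exists_eq_commutator_mul_centralizer (zpowers_le.2 hc) (cop e2 c3)
    (Or.inr (Group.isSolvable_of_comm fun a b => Subtype.ext (e2.comm a.2 b.2))) hv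

theorem four {U : Subgroup G} (hU : U ≤ ⁅V, zpowers c⁆) (nc : c ∈ 𝐍[U]) {w : G} (hw : w ∈ U) (w1 : w ≠ 1) :
    4 ≤ Nat.card U ∧ (Nat.card U ≤ 4 → ∀ u ∈ U, u = 1 ∨ u = w ∨ u = c * w * c⁻¹ ∨ u = c⁻¹ * w * c) := by
  have n0 : ¬ c * w = w * c := fun h => w1 (fix_bot e2 hc c3 (hU hw) h)
  have a1 : w ≠ c * w * c⁻¹ := fun h => n0 (by
    calc c * w = c * w * c⁻¹ * c := by group
      _ = w * c := by rw [← h])
  have a2 : w ≠ c⁻¹ * w * c := fun h => n0 (by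
    calc c * w = c * (c⁻¹ * w * c) := by rw [← h]
      _ = w * c := by group)
  have a3 : c * w * c⁻¹ ≠ c⁻¹ * w * c := fun h => n0 (of_sq c3 (by
    calc c * c * w = c * (c * w * c⁻¹) * c := by group
      _ = w * (c * c) := by rw [h]; group))
  have b1 : (1 : G) ≠ c * w * c⁻¹ := fun h => w1 (by simpa using h.symm)
  have b2 : (1 : G) ≠ c⁻¹ * w * c := fun h => w1 (by
    calc w = c * (c⁻¹ * w * c) * c⁻¹ := by group
      _ = 1 := by rw [← h]; group)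
  have hs : ({1, w, c * w * c⁻¹, c⁻¹ * w * c} : Set G) ⊆ U := by
    rintro _ (rfl | rfl | rfl | rfl)
    · exact one_mem U
    · exact hw
    · exact conj_mem_of_norm nc hw
    · exact conj_mem_of_norm' nc hw
  have hn : ({1, w, c * w * c⁻¹, c⁻¹ * w * c} : Set G).ncard = 4 := by
    rw [Set.ncard_insert_of_notMem (by simp only [Set.mem_insert_iff, Set.mem_singleton_iff]; tauto),
      Set.ncard_insert_of_notMem (by simp only [Set.mem_insert_iff, Set.mem_singleton_iff]; tauto),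
      Set.ncard_pair a3]
  have hU' : Nat.card U = (U : Set G).ncard := Nat.card_coe_set_eq _
  refine ⟨?_, fun h u hu => ?_⟩
  · rw [hU', ← hn]
    exact Set.ncard_le_ncard hs
  · have := Set.eq_of_subset_of_ncard_le hs (by rw [hn, ← hU']; exact h)
    have hu' : u ∈ (U : Set G) := hu
    rw [← this] at hu'
    exact hu'

theorem four' {U : Subgroup G} (hU : U ≤ ⁅V, zpowers c⁆) (nc : c ∈ 𝐍[U]) (h : U ≠ ⊥) : 4 ≤ Nat.card U := by
  obtain ⟨⟨w, hw⟩, w1⟩ := ne_bot_iff_exists_ne_one.1 h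
  exact (four e2 hc c3 hU nc hw fun e => w1 (Subtype.ext e)).1

/-- An element commuting with `c` acts on a four-group in `[V, c]` as a power of `c`. -/
theorem act {U : Subgroup G} (hU : U ≤ ⁅V, zpowers c⁆) (nc : c ∈ 𝐍[U]) (h4 : Nat.card U ≤ 4) {g : G}
    (hg : g ∈ 𝐍[U]) (gc : g * c = c * g) : ∃ k : ℤ, g * c ^ k ∈ 𝐂[U] := by
  by_cases h : U = ⊥
  · exact ⟨0, by rw [h, cent_bot]; exact mem_top _⟩
  obtain ⟨⟨w, hw⟩, w1⟩ := ne_bot_iff_exists_ne_one.1 h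
  have w1' : w ≠ 1 := fun e => w1 (Subtype.ext e)
  have k := (four e2 hc c3 hU nc hw w1').2 h4
  have gc' : Commute g c := gc
  have : ∃ j : ℤ, Commute (g * c ^ j) w := by
    rcases k _ (conj_mem_of_norm hg hw) with e | e | e | e
    · exact absurd (by simpa using e) w1'
    · refine ⟨0, ?_⟩
      rw [zpow_zero, mul_one]
      exact mul_inv_eq_iff_eq_mul.1 e
    · refine ⟨-1, ?_⟩
      rw [zpow_neg_one, gc'.inv_right.eq]
      show c⁻¹ * g * w = w * (c⁻¹ * g)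
      calc c⁻¹ * g * w = c⁻¹ * (g * w * g⁻¹) * g := by group
        _ = _ := by rw [e]; group
    · refine ⟨1, ?_⟩
      rw [zpow_one, gc]
      show c * g * w = w * (c * g)
      calc c * g * w = c * (g * w * g⁻¹) * g := by group
        _ = w * (c * g) := by rw [e]; group
  obtain ⟨j, hj⟩ := this
  have hc' : Commute (g * c ^ j) c := gc'.mul_left ((Commute.refl c).zpow_left j)
  refine ⟨j, mem_cent.2 fun u hu => Eq.symm ?_⟩
  rcases k u hu with rfl | rfl | rfl | rfl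
  · exact (Commute.one_right _).eq
  · exact hj.eq
  · exact ((hc'.mul_right hj).mul_right hc'.inv_right).eq
  · exact ((hc'.inv_right.mul_right hj).mul_right hc').eq

theorem le_cx {U : Subgroup G} (hU : U ≤ ⁅V, zpowers c⁆) {x : G} (x3 : x ^ 3 = 1) (nx : x ∈ 𝐍[U])
    (h : ∀ b ∈ U, x * b = b * x → c * b = b * c) : U ≤ ⁅V, zpowers x⁆ := by
  have hV : U ≤ V := hU.trans (comm_le_left (zpowers_le.2 hc))
  intro u hu
  obtain ⟨w, hw, a, ha, rfl⟩ := dec (e2.mono hV) nx x3 hu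
  rw [fix_bot e2 hc c3 (hU ha.1) (h a ha.1 (mem_cz.1 ha.2)), mul_one]
  exact commutator_mono hV le_rfl hw

end mod

section st

variable {𝒩 : Subgroup (MulAut G)} {H V : Subgroup G} (h : M3 𝒩 H V)
include h

theorem HV : H ≤ 𝐍[V] := fun g hg =>
  mem_norm_of_cj_le (cj_le_iff.2 fun v hv => h.iV _ (h.inn g hg) v hv)

theorem PV : 𝐎[3, H] ≤ 𝐍[V] := (map_subtype_le _).trans (HV h)

theorem ff1 {g : G} (hg : g ∈ 𝐎[3, H]) (hv : g ∈ 𝐂[V]) : g = 1 :=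
  mem_bot.1 (h.ff ▸ mem_inf.2 ⟨map_subtype_le _ hg, hv⟩)

variable {t : G} (ht : t ∈ T4 H V)
include ht

theorem I3 {z : G} (hz : z ∈ 𝐎[3, H]) (i : t * z * t⁻¹ = z⁻¹) : z ^ 3 = 1 := by
  by_cases e : z = 1
  · rw [e, one_pow]
  · rw [← (h.inv3 t ht z hz e i).1]
    exact pow_orderOf_eq_one z

/-- Commuting inverted elements generate the same group. -/
theorem cyc {x y : G} (hx : x ∈ 𝐎[3, H]) (hy : y ∈ 𝐎[3, H]) (ix : t * x * t⁻¹ = x⁻¹) (iy : t * y * t⁻¹ = y⁻¹)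
    (x1 : x ≠ 1) (hc : x * y = y * x) : y ∈ zpowers x := by
  by_contra hn
  have c : Commute x y := hc
  have y1 : y ≠ 1 := fun e => hn (e ▸ one_mem _)
  have a1 : x * y ≠ 1 := fun e => hn (eq_inv_of_mul_eq_one_right e ▸ inv_mem (mem_zpowers x))
  have a2 : x * y⁻¹ ≠ 1 := fun e => hn (mul_inv_eq_one.1 e ▸ mem_zpowers x)
  have b1 : t * (x * y) * t⁻¹ = (x * y)⁻¹ := by rw [← conj_mul, ix, iy, hc, mul_inv_rev]
  have b2 : t * (x * y⁻¹) * t⁻¹ = (x * y⁻¹)⁻¹ := by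
    rw [← conj_mul, ← conj_inv, ix, iy, c.inv_right.eq, mul_inv_rev]
  obtain ⟨o1, k1, -⟩ := h.inv3 t ht x hx x1 ix
  obtain ⟨o2, k2, -⟩ := h.inv3 t ht y hy y1 iy
  exact h.nine x (map_subtype_le _ hx) y (map_subtype_le _ hy) o1 o2 hc hn k1 k2
    (h.inv3 t ht _ (mul_mem hx hy) a1 b1).2.1 (h.inv3 t ht _ (mul_mem hx (inv_mem hy)) a2 b2).2.1

variable {x y c : G} (hx : x ∈ 𝐎[3, H]) (hy : y ∈ 𝐎[3, H]) (ix : t * x * t⁻¹ = x⁻¹)
  (c1 : c ≠ 1) (e : y * x * y⁻¹ = x * c⁻¹) (xc : x * c = c * x) (yc : y * c = c * y)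
include hx hy ix c1 e xc yc

theorem cP : c ∈ 𝐎[3, H] := by
  have : c = (y * x * y⁻¹)⁻¹ * x := by rw [e]; group
  rw [this]
  exact mul_mem (inv_mem (mul_mem (mul_mem hy hx) (inv_mem hy))) hx

theorem x1 : x ≠ 1 := fun e1 => c1 (by simpa [e1] using e)

theorem c3 : c ^ 3 = 1 := by
  have x3 := I3 h ht hx ix
  have k : (x * c⁻¹) ^ 3 = 1 := by rw [← e, conj_pow, x3]; group
  have c : Commute x c := xc
  rwa [c.inv_right.mul_pow, x3, one_mul, inv_pow, inv_eq_one] at k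

theorem e' : y⁻¹ * x * y⁻¹⁻¹ = x * c := by
  calc y⁻¹ * x * y⁻¹⁻¹ = y⁻¹ * (x * c⁻¹) * (c * y) := by group
    _ = x * c := by rw [← e, ← yc]; group

theorem ypow (k : ℤ) : y ^ k * x * (y ^ k)⁻¹ = x * c ^ (-k) := by
  have cy : Commute y c := yc
  induction k using Int.induction_on with
  | zero => simp
  | succ k ih =>
    calc y ^ ((k : ℤ) + 1) * x * (y ^ ((k : ℤ) + 1))⁻¹ = y * (y ^ (k : ℤ) * x * (y ^ (k : ℤ))⁻¹) * y⁻¹ := by group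
      _ = y * x * y⁻¹ * (y * c ^ (-(k : ℤ)) * y⁻¹) := by rw [ih]; group
      _ = _ := by rw [e, (cy.zpow_right _).eq]; group
  | pred k ih =>
    calc y ^ (-(k : ℤ) - 1) * x * (y ^ (-(k : ℤ) - 1))⁻¹
        = y⁻¹ * (y ^ (-(k : ℤ)) * x * (y ^ (-(k : ℤ)))⁻¹) * y := by group
      _ = y⁻¹ * x * y⁻¹⁻¹ * (y⁻¹ * c ^ (- -(k : ℤ)) * y) := by rw [ih]; group
      _ = _ := by rw [e' h ht hx hy ix c1 e xc yc, (cy.inv_left.zpow_right _).eq]; group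

/-- The three parts of an invariant subgroup of `[V, c]` have the same order. -/
theorem cube {U : Subgroup G} (hU : U ≤ ⁅V, zpowers c⁆) (nx : x ∈ 𝐍[U]) (ny : y ∈ 𝐍[U]) (nc : c ∈ 𝐍[U]) :
    Nat.card ↥(U ⊓ 𝐂[zpowers (x * c)]) = Nat.card ↥(U ⊓ 𝐂[zpowers x]) ∧
    Nat.card ↥(U ⊓ 𝐂[zpowers (x * c⁻¹)]) = Nat.card ↥(U ⊓ 𝐂[zpowers x]) ∧
    Nat.card U = Nat.card ↥(U ⊓ 𝐂[zpowers x]) ^ 3 := by
  have a1 : Nat.card ↥(U ⊓ 𝐂[zpowers (x * c)]) = Nat.card ↥(U ⊓ 𝐂[zpowers x]) := by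
    rw [← e' h ht hx hy ix c1 e xc yc, ← cj_cz _ _ (inv_mem ny), card_cj]
  have a2 : Nat.card ↥(U ⊓ 𝐂[zpowers (x * c⁻¹)]) = Nat.card ↥(U ⊓ 𝐂[zpowers x]) := by
    rw [← e, ← cj_cz _ _ ny, card_cj]
  refine ⟨a1, a2, ?_⟩
  rw [(three h.e2 (PV h hx) (PV h (cP h ht hx hy ix c1 e xc yc)) (I3 h ht hx ix) (c3 h ht hx hy ix c1 e xc yc)
    xc hU nx nc).2, a1, a2]
  ring

theorem nW {g : G} (hg : g ∈ 𝐎[3, H]) (gc : g * c = c * g) : g ∈ 𝐍[⁅V, zpowers c⁆] :=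
  n_comm (PV h hg) (nz gc.symm)

theorem main : Nat.card ↥(⁅V, zpowers c⁆ ⊓ 𝐂[zpowers x]) = 4 ∧ V ⊓ 𝐂[zpowers c] ≤ 𝐂[zpowers x] := by
  have hc := cP h ht hx hy ix c1 e xc yc
  have hcV := PV h hc
  have c3' := c3 h ht hx hy ix c1 e xc yc
  have x3 := I3 h ht hx ix
  have cx : Commute x c := xc
  have nx := nW h ht hx hy ix c1 e xc yc hx xc
  have nc := nW h ht hx hy ix c1 e xc yc hc rfl
  obtain ⟨a1, a2, a3⟩ := cube h ht hx hy ix c1 e xc yc le_rfl nx (nW h ht hx hy ix c1 e xc yc hy yc) nc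
  have WV : ⁅V, zpowers c⁆ ≤ V := comm_le_left (zpowers_le.2 hcV)
  have w1 : ⁅V, zpowers c⁆ ≠ ⊥ := fun k => c1 (ff1 h hc (comm_eq_bot_iff'.1 k (mem_zpowers c)))
  have w0 : ⁅V, zpowers c⁆ ⊓ 𝐂[zpowers x] ≠ ⊥ := fun k => w1 (by
    rw [k, card_bot, one_pow] at a3
    exact card_eq_one.1 a3)
  have n4 := four' h.e2 hcV c3' inf_le_left (n_cz nc xc) w0
  have l1 : ⁅V, zpowers c⁆ ⊓ 𝐂[zpowers (x * c)] ≤ ⁅V, zpowers x⁆ :=
    le_cx h.e2 hcV c3' inf_le_left x3 (n_cz nx ((Commute.refl x).mul_left cx.symm).eq) fun b hb k => by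
      have k1 : Commute (x * c) b := mem_cz.1 hb.2
      have k2 : Commute x b := k
      simpa using (k2.inv_left.mul_left k1).eq
  have l2 : ⁅V, zpowers c⁆ ⊓ 𝐂[zpowers (x * c⁻¹)] ≤ ⁅V, zpowers x⁆ :=
    le_cx h.e2 hcV c3' inf_le_left x3 (n_cz nx ((Commute.refl x).mul_left cx.symm.inv_left).eq) fun b hb k => by
      have k1 : Commute (x * c⁻¹) b := mem_cz.1 hb.2
      have k2 : Commute x b := k
      simpa using (k1.inv_left.mul_left k2).eq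
  have dj : (⁅V, zpowers c⁆ ⊓ 𝐂[zpowers (x * c)]) ⊓ (⁅V, zpowers c⁆ ⊓ 𝐂[zpowers (x * c⁻¹)]) = ⊥ := by
    refine eq_bot_iff.2 fun b hb => mem_bot.2 (fix_bot h.e2 hcV c3' hb.1.1 (of_sq c3' ?_))
    have k1 : Commute (x * c) b := mem_cz.1 hb.1.2
    have k2 : Commute (x * c⁻¹) b := mem_cz.1 hb.2.2
    have : (x * c⁻¹)⁻¹ * (x * c) = c * c := by group
    rw [← this]
    exact (k2.inv_left.mul_left k1).eq
  have cs := CopAct.card_sup_of_inf_eq_bot (nle h.e2 (inf_le_left.trans WV) (inf_le_left.trans WV)) dj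
  have h16 := (h.inv3 t ht x hx (x1 h ht hx hy ix c1 e xc yc) ix).2.1
  have b1 := card_le_of_le (sup_le l1 l2)
  rw [cs, a1, a2, h16] at b1
  have n : Nat.card ↥(⁅V, zpowers c⁆ ⊓ 𝐂[zpowers x]) = 4 := by nlinarith
  have eq := Subgroup.eq_of_le_of_card_ge (sup_le l1 l2) (by rw [cs, a1, a2, h16, n])
  have xW : ⁅V, zpowers x⁆ ≤ ⁅V, zpowers c⁆ := eq ▸ sup_le inf_le_left inf_le_left
  refine ⟨n, fun v hv => mem_cz.2 ?_⟩
  have m1 : ⁅v, x⁆ ∈ ⁅V, zpowers c⁆ := xW (commutator_mem_commutator hv.1 (mem_zpowers x))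
  have m2 : ⁅v, x⁆ ∈ V ⊓ 𝐂[zpowers c] :=
    comm_le_left (zpowers_le.2 (n_cz (PV h hx) xc.symm)) (commutator_mem_commutator hv (mem_zpowers x))
  exact (commutatorElement_eq_one_iff_mul_comm.1 (fix_bot h.e2 hcV c3' m1 (mem_cz.1 m2.2))).symm

theorem triv {g : G} (hg : g ∈ 𝐎[3, H]) (gx : g * x = x * g) (gc : g * c = c * g)
    (k0 : g ∈ 𝐂[V ⊓ 𝐂[zpowers c]]) (k1 : g ∈ 𝐂[⁅V, zpowers c⁆ ⊓ 𝐂[zpowers x]])
    (k2 : g ∈ 𝐂[⁅V, zpowers c⁆ ⊓ 𝐂[zpowers (x * c)]]) : g = 1 := by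
  have : Fact (Nat.Prime 3) := ⟨Nat.prime_three⟩
  by_contra g1
  have hc := cP h ht hx hy ix c1 e xc yc
  have hcV := PV h hc
  have c3' := c3 h ht hx hy ix c1 e xc yc
  have cx : Commute x c := xc
  have gc' : Commute g c := gc
  have gx' : Commute g x := gx
  have nx := nW h ht hx hy ix c1 e xc yc hx xc
  have nc := nW h ht hx hy ix c1 e xc yc hc rfl
  have ng := nW h ht hx hy ix c1 e xc yc hg gc
  obtain ⟨-, a2, -⟩ := cube h ht hx hy ix c1 e xc yc le_rfl nx (nW h ht hx hy ix c1 e xc yc hy yc) nc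
  rw [(main h ht hx hy ix c1 e xc yc).1] at a2
  have WV : ⁅V, zpowers c⁆ ≤ V := comm_le_left (zpowers_le.2 hcV)
  have ngm := n_cz ng (gx'.mul_right gc'.inv_right).symm.eq
  obtain ⟨l, hl⟩ := act h.e2 hcV c3' inf_le_left (n_cz nc (cx.mul_left (Commute.refl c).inv_left).eq) a2.le ngm gc
  have hW := (three h.e2 (PV h hx) hcV (I3 h ht hx ix) c3' xc le_rfl nx nc).1
  have hV : V ≤ (⁅V, zpowers c⁆ ⊓ 𝐂[zpowers (x * c⁻¹)]) ⊔ ((V ⊓ 𝐂[zpowers c]) ⊔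
      ((⁅V, zpowers c⁆ ⊓ 𝐂[zpowers x]) ⊔ (⁅V, zpowers c⁆ ⊓ 𝐂[zpowers (x * c)]))) := by
    intro v hv
    obtain ⟨w, hw, a, ha, rfl⟩ := dec h.e2 hcV c3' hv
    refine mul_mem ?_ (mem_sup_right (mem_sup_left ha))
    exact (hW.le.trans (sup_le (le_sup_right.trans le_sup_right) le_sup_left)) hw
  have k3 : g ∈ 𝐂[(V ⊓ 𝐂[zpowers c]) ⊔
      ((⁅V, zpowers c⁆ ⊓ 𝐂[zpowers x]) ⊔ (⁅V, zpowers c⁆ ⊓ 𝐂[zpowers (x * c)]))] := by
    rw [cent_sup, cent_sup]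
    exact ⟨k0, k1, k2⟩
  have g3 : g ^ 3 = 1 := by
    refine ff1 h (pow_mem hg 3) (cent_anti hV ?_)
    rw [cent_sup]
    refine ⟨?_, pow_mem k3 3⟩
    have := pow_mem hl 3
    rwa [(gc'.zpow_right l).mul_pow, ← zpow_natCast (c ^ l), ← zpow_mul, mul_comm l, zpow_mul, zpow_natCast, c3',
      one_zpow, mul_one] at this
  have le : ⁅V, zpowers g⁆ ≤ ⁅V, zpowers c⁆ ⊓ 𝐂[zpowers (x * c⁻¹)] :=
    (CopAct.commutator_le_of_le_sup_centralizer hV (cent_comm (zpowers_le.2 k3))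
      (nle h.e2 (sup_le inf_le_left (sup_le (inf_le_left.trans WV) (inf_le_left.trans WV)))
        (inf_le_left.trans WV))).trans (comm_le_left (zpowers_le.2 ngm))
  have ne : ⁅V, zpowers g⁆ ≠ ⊥ := fun k => g1 (ff1 h hg (comm_eq_bot_iff'.1 k (mem_zpowers g)))
  have b1 := four' h.e2 hcV c3' (le.trans inf_le_left) (n_comm hcV (nz gc)) ne
  have b2 := card_le_of_le le
  exact h.no4 g hg (orderOf_eq_prime g3 g1) (by omega)

theorem key {g : G} (hg : g ∈ 𝐎[3, H]) (gx : g * x = x * g) (gc : g * c = c * g)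
    (k0 : g ∈ 𝐂[V ⊓ 𝐂[zpowers c]]) : ∃ i j : ℤ, g = x ^ i * c ^ j := by
  have hc := cP h ht hx hy ix c1 e xc yc
  have hcV := PV h hc
  have c3' := c3 h ht hx hy ix c1 e xc yc
  have cx : Commute x c := xc
  have gc' : Commute g c := gc
  have gx' : Commute g x := gx
  have nx := nW h ht hx hy ix c1 e xc yc hx xc
  have nc := nW h ht hx hy ix c1 e xc yc hc rfl
  have ng := nW h ht hx hy ix c1 e xc yc hg gc
  obtain ⟨a1, -, -⟩ := cube h ht hx hy ix c1 e xc yc le_rfl nx (nW h ht hx hy ix c1 e xc yc hy yc) nc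
  obtain ⟨n, hC⟩ := main h ht hx hy ix c1 e xc yc
  rw [n] at a1
  obtain ⟨k, hk⟩ := act h.e2 hcV c3' inf_le_left (n_cz nc xc) n.le (n_cz ng gx.symm) gc
  have d1 : Commute (g * c ^ k) c := gc'.mul_left ((Commute.refl c).zpow_left k)
  have d2 : Commute (g * c ^ k) x := gx'.mul_left (cx.symm.zpow_left k)
  have hg1 : g * c ^ k ∈ 𝐎[3, H] := mul_mem hg (zpow_mem hc k)
  obtain ⟨m, hm⟩ := act h.e2 hcV c3' inf_le_left (n_cz nc (cx.mul_left (Commute.refl c)).eq) a1.le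
    (n_cz (nW h ht hx hy ix c1 e xc yc hg1 d1.eq) (d2.mul_right d1).symm.eq) d1.eq
  have z : ∀ (U : Subgroup G) (a : G), a ∈ 𝐂[U ⊓ 𝐂[zpowers a]] := fun U a =>
    cent_comm inf_le_right (mem_zpowers a)
  have := triv h ht hx hy ix c1 e xc yc (g := g * c ^ k * x ^ (-m)) (mul_mem hg1 (zpow_mem hx _))
    (d2.mul_left ((Commute.refl x).zpow_left _)).eq (d1.mul_left (cx.zpow_left _)).eq
    (mul_mem (mul_mem k0 (zpow_mem (z _ c) k)) (zpow_mem (cent_comm hC (mem_zpowers x)) _))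
    (mul_mem hk (zpow_mem (z _ x) _)) (by
      have : g * c ^ k * x ^ (-m) = g * c ^ k * c ^ m * (x * c) ^ (-m) := by
        rw [xc, cx.symm.mul_zpow]
        group
      rw [this]
      exact mul_mem hm (zpow_mem (z _ (x * c)) _))
  refine ⟨m, -k, ?_⟩
  calc g = g * c ^ k * x ^ (-m) * (x ^ m * c ^ (-k)) := by group
    _ = _ := by rw [this, one_mul]

theorem key' {g : G} (hg : g ∈ 𝐎[3, H]) (gx : g * x = x * g) (gy : g * y = y * g) (gc : g * c = c * g)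
    (k0 : g ∈ 𝐂[V ⊓ 𝐂[zpowers c]]) : g ∈ zpowers c := by
  have : Fact (Nat.Prime 3) := ⟨Nat.prime_three⟩
  obtain ⟨i, j, rfl⟩ := key h ht hx hy ix c1 e xc yc hg gx gc k0
  have cx : Commute x c := xc
  have cy : Commute y c := yc
  have a : y * x ^ i * y⁻¹ = x ^ i := by
    calc y * x ^ i * y⁻¹ = y * (x ^ i * c ^ j) * (c ^ (-j) * y⁻¹) := by group
      _ = x ^ i := by rw [← gy, ← (cy.inv_left.zpow_right (-j)).eq]; group
  rw [← conj_zpow, e, cx.inv_right.mul_zpow, mul_eq_left, inv_zpow, inv_eq_one] at a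
  have d := orderOf_dvd_iff_zpow_eq_one.2 a
  rw [orderOf_eq_prime (c3 h ht hx hy ix c1 e xc yc) c1,
    ← orderOf_eq_prime (I3 h ht hx ix) (x1 h ht hx hy ix c1 e xc yc)] at d
  rw [orderOf_dvd_iff_zpow_eq_one.1 d, one_mul]
  exact zpow_mem (mem_zpowers c) j

theorem irr' {U : Subgroup G} (hU : U ≤ ⁅V, zpowers c⁆) (hn : 𝐎[3, H] ≤ 𝐍[U]) : U = ⊥ ∨ U = ⁅V, zpowers c⁆ := by
  have hc := cP h ht hx hy ix c1 e xc yc
  obtain ⟨-, -, a⟩ := cube h ht hx hy ix c1 e xc yc hU (hn hx) (hn hy) (hn hc)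
  obtain ⟨-, -, b⟩ := cube h ht hx hy ix c1 e xc yc le_rfl (nW h ht hx hy ix c1 e xc yc hx xc)
    (nW h ht hx hy ix c1 e xc yc hy yc) (nW h ht hx hy ix c1 e xc yc hc rfl)
  rw [(main h ht hx hy ix c1 e xc yc).1] at b
  by_cases k : U ⊓ 𝐂[zpowers x] = ⊥
  · rw [k, card_bot, one_pow] at a
    exact Or.inl (card_eq_one.1 a)
  · have := four' h.e2 (PV h hc) (c3 h ht hx hy ix c1 e xc yc) (inf_le_left.trans hU) (n_cz (hn hc) xc) k
    refine Or.inr (Subgroup.eq_of_le_of_card_ge hU ?_)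
    rw [a, b]
    exact Nat.pow_le_pow_left this 3

end st

end MD

open MD in
theorem M3.ex {𝒩 : Subgroup (MulAut G)} {H V : Subgroup G} (h : M3 𝒩 H V) {t x y : G}
    (ht : t ∈ T4 H V) (hx : x ∈ 𝐎[3, H]) (hy : y ∈ 𝐎[3, H]) (ix : t * x * t⁻¹ = x⁻¹)
    (iy : t * y * t⁻¹ = y⁻¹) (x1 : x ≠ 1) (hn : y ∉ zpowers x) : ∃ c, Ex 𝐎[3, H] V t c := by
  have : Fact (Nat.Prime 3) := ⟨Nat.prime_three⟩
  have t2 : t * t = 1 := ht.2.1
  have tP : t ∈ 𝐍[𝐎[3, H]] := norm_core (norm_of_le le_rfl) ht.1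
  have pP : IsPGroup 3 𝐎[3, H] := pg_core H
  have mk : ∀ g : G, t * (g⁻¹ * (t * g * t⁻¹)) * t⁻¹ = (g⁻¹ * (t * g * t⁻¹))⁻¹ := fun g => by
    calc t * (g⁻¹ * (t * g * t⁻¹)) * t⁻¹ = t * g⁻¹ * t⁻¹ * ((t * t) * g * (t * t)⁻¹) := by group
      _ = _ := by rw [t2]; group
  -- the subgroup generated by the inverted elements
  obtain ⟨R, hR⟩ : ∃ R, R = closure {z | z ∈ 𝐎[3, H] ∧ t * z * t⁻¹ = z⁻¹} := ⟨_, rfl⟩
  have RP : R ≤ 𝐎[3, H] := hR ▸ (closure_le _).2 fun z hz => hz.1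
  have mR : ∀ z ∈ 𝐎[3, H], t * z * t⁻¹ = z⁻¹ → z ∈ R := fun z a b => hR ▸ subset_closure ⟨a, b⟩
  have mR' : ∀ g ∈ 𝐎[3, H], g⁻¹ * (t * g * t⁻¹) ∈ R := fun g a =>
    mR _ (mul_mem (inv_mem a) (conj_mem_of_norm tP a)) (mk g)
  have Rle : ∀ K : Subgroup G, (∀ z ∈ 𝐎[3, H], t * z * t⁻¹ = z⁻¹ → z ∈ K) → R ≤ K := fun K k =>
    hR ▸ (closure_le _).2 fun z hz => k z hz.1 hz.2
  have PR : 𝐎[3, H] ≤ 𝐍[R] := norm_of_forall_cj_le fun g hg => map_le_iff_le_comap.2 (Rle _ fun z a b => by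
    show g * z * g⁻¹ ∈ R
    have z3 := I3 h ht a b
    have : g * z * g⁻¹ = (z * g⁻¹)⁻¹ * (t * (z * g⁻¹) * t⁻¹) * (g⁻¹⁻¹ * (t * g⁻¹ * t⁻¹))⁻¹ := by
      calc g * z * g⁻¹ = g * (z * (z ^ 3)⁻¹) * g⁻¹ := by rw [z3]; group
        _ = g * z⁻¹ * z⁻¹ * g⁻¹ := by group
        _ = g * z⁻¹ * (t * z * t⁻¹) * g⁻¹ := by rw [b]
        _ = _ := by group
    rw [this]
    exact mul_mem (mR' _ (mul_mem a (inv_mem hg))) (inv_mem (mR' _ (inv_mem hg))))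
  have tR : t ∈ 𝐍[R] := mem_norm_of_cj_le (map_le_iff_le_comap.2 (Rle _ fun z a b => by
    show t * z * t⁻¹ ∈ R
    rw [b]
    exact inv_mem (mR z a b)))
  have ninv : ∀ z ∈ 𝐎[3, H], t * z * t⁻¹ = z⁻¹ → t * z = z * t → z = 1 := fun z a b k => by
    rw [k, mul_inv_cancel_right] at b
    calc z = z ^ 3 * (z * z)⁻¹ := by group
      _ = 1 := by rw [I3 h ht a (by rw [k, mul_inv_cancel_right]; exact b), mul_eq_one_iff_eq_inv.2 b]; group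
  obtain ⟨N, ⟨NR, PN, tN, nc⟩, hmin⟩ := (wellFounded_lt (α := Subgroup G)).has_min
    {N | N ≤ R ∧ 𝐎[3, H] ≤ 𝐍[N] ∧ t ∈ 𝐍[N] ∧ ¬ N ≤ 𝐂[zpowers t]}
    ⟨R, le_rfl, PR, tR, fun k => x1 (ninv x hx ix (mem_cz.1 (k (mR x hx ix))))⟩
  have NP := NR.trans RP
  have MN : ⁅N, 𝐎[3, H]⁆ ≤ N := comm_le_left PN
  have PM : 𝐎[3, H] ≤ 𝐍[⁅N, 𝐎[3, H]⁆] := norm_comm PN (norm_of_le le_rfl)
  have Mt : ⁅N, 𝐎[3, H]⁆ ≤ 𝐂[zpowers t] := by
    by_contra k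
    exact hmin _ ⟨MN.trans NR, PM, n_comm tN tP, k⟩
      (PG.commutator_lt_of_isPGroup (pP.to_le NP) pP PN fun e => nc (e ▸ bot_le))
  have MI : ∀ z ∈ 𝐎[3, H], t * z * t⁻¹ = z⁻¹ → ∀ m ∈ ⁅N, 𝐎[3, H]⁆, m * z = z * m := fun z a b =>
    mem_cent.1 (cenI (PM a) Mt b (I3 h ht a b))
  obtain ⟨g, hg, gt⟩ := SetLike.not_le_iff_exists.1 nc
  obtain ⟨a, aN, ia, a1⟩ : ∃ a ∈ N, t * a * t⁻¹ = a⁻¹ ∧ a ≠ 1 :=
    ⟨_, mul_mem (inv_mem hg) (conj_mem_of_norm tN hg), mk g, fun k => gt (mem_cz.2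
      (mul_inv_eq_iff_eq_mul.1 (inv_mul_eq_one.1 k).symm))⟩
  have aP := NP aN
  obtain ⟨b, bP, ib, ab⟩ : ∃ b ∈ 𝐎[3, H], t * b * t⁻¹ = b⁻¹ ∧ ⁅a, b⁆ ≠ 1 := by
    by_contra k
    push Not at k
    have k1 := cyc h ht aP hx ia ix a1 (commutatorElement_eq_one_iff_mul_comm.1 (k x hx ix))
    have k2 := cyc h ht aP hy ia iy a1 (commutatorElement_eq_one_iff_mul_comm.1 (k y hy iy))
    have c : Commute a x := commutatorElement_eq_one_iff_mul_comm.1 (k x hx ix)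
    exact hn (zpowers_le.2 (cyc h ht hx aP ix ia x1 c.symm.eq) k2)
  have cM : ⁅a, b⁆ ∈ ⁅N, 𝐎[3, H]⁆ := commutator_mem_commutator aN bP
  have ac := (MI a aP ia _ cM).symm
  have bc := (MI b bP ib _ cM).symm
  have e : b * a * b⁻¹ = a * ⁅a, b⁆⁻¹ := by
    have : Commute a ⁅a, b⁆ := ac
    rw [this.inv_right.eq, commutatorElement_def]
    group
  generalize ⁅a, b⁆ = c at ab cM ac bc e
  have hc := cP h ht aP bP ia ab e ac bc
  have c3' := c3 h ht aP bP ia ab e ac bc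
  have ct : V ⊓ 𝐂[zpowers c] ≤ 𝐂[zpowers t] := fun v hv =>
    (h.inv3 t ht a aP a1 ia).2.2 ⟨hv.1, (main h ht aP bP ia ab e ac bc).2 hv⟩
  have IC : ∀ z ∈ 𝐎[3, H], t * z * t⁻¹ = z⁻¹ → z ∈ 𝐂[V ⊓ 𝐂[zpowers c]] := fun z p q =>
    cenI (n_cz (PV h p) (MI z p q c cM)) ct q (I3 h ht p q)
  have Rc : R ≤ 𝐂[zpowers c] := Rle _ fun z p q => mem_cz.2 (MI z p q c cM)
  have Mc : ⁅N, 𝐎[3, H]⁆ ≤ zpowers c := fun m hm =>
    key' h ht aP bP ia ab e ac bc (NP (MN hm)) (MI a aP ia m hm) (MI b bP ib m hm)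
      (mem_cz.1 (Rc (NR (MN hm)))).symm (Rle _ IC (NR (MN hm)))
  have Pc : ∀ g ∈ 𝐎[3, H], g * c = c * g := fun g hg => by
    rcases mem_three c3' (Mc (conj_mem_of_norm (PM hg) cM)) with k | k | k
    · exact absurd (by simpa using k) ab
    · exact mul_inv_eq_iff_eq_mul.1 k
    · obtain ⟨n, hn⟩ := pg_iff.1 pP g hg
      have k2 : Commute (g ^ 2) c := by
        rw [pow_two]
        show g * g * c = c * (g * g)
        calc g * g * c = g * (g * c * g⁻¹) * g := by group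
          _ = g * c⁻¹ * g := by rw [k]
          _ = (g * c * g⁻¹)⁻¹ * (g * g) := by simp only [mul_inv_rev, inv_inv, mul_assoc, inv_mul_cancel_left]
          _ = c * (g * g) := by rw [k, inv_inv]
      obtain ⟨m, hm⟩ : Odd (3 ^ n) := Odd.pow (by decide)
      have : g = (g ^ 2) ^ (m + 1) := by
        rw [← pow_mul, show 2 * (m + 1) = 3 ^ n + 1 by omega, pow_succ, hn, one_mul]
      rw [this]
      exact (k2.pow_left _).eq
  refine ⟨c, ⟨hc, mem_cent.2 Pc⟩, orderOf_eq_prime c3' ab, mem_cz.1 (Mt cM), ct,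
    fun U hU hn => irr' h ht aP bP ia ab e ac bc hU hn, fun g hg k0 => ?_, fun d hd k0 => ?_⟩
  · obtain ⟨k, hk⟩ := Mc (commutator_mem_commutator aN hg)
    have hk' : c ^ k = ⁅a, g⁆ := hk
    have ca : Commute a c := ac
    have cb : Commute b c := bc
    have k1 : g * a * g⁻¹ = b ^ k * a * (b ^ k)⁻¹ := by
      rw [ypow h ht aP bP ia ab e ac bc, (ca.zpow_right _).eq, zpow_neg, hk', commutatorElement_def]
      group
    obtain ⟨i, j, k2⟩ := key h ht aP bP ia ab e ac bc (g := (b ^ k)⁻¹ * g) (mul_mem (inv_mem (zpow_mem bP k)) hg)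
      (by
        calc (b ^ k)⁻¹ * g * a = (b ^ k)⁻¹ * (g * a * g⁻¹) * g := by group
          _ = _ := by rw [k1]; group)
      (Pc _ (mul_mem (inv_mem (zpow_mem bP k)) hg)) (mul_mem (inv_mem (zpow_mem (IC b bP ib) k)) k0)
    have k3 : g = b ^ k * (a ^ i * c ^ j) := by rw [← k2]; group
    have tc : t * c * t⁻¹ = c := mul_inv_eq_iff_eq_mul.2 (mem_cz.1 (Mt cM))
    have k4 : t * g * t⁻¹ = (b ^ k)⁻¹ * ((a ^ i)⁻¹ * c ^ j) := by
      rw [k3, ← conj_mul, ← conj_mul, ← conj_zpow, ← conj_zpow, ← conj_zpow, ia, ib, tc, inv_zpow, inv_zpow]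
    have k5 : t * g * t⁻¹ * g = ⁅a ^ (-i), (b ^ k)⁻¹⁆⁻¹ * (c ^ j * c ^ j) := by
      have d : Commute (c ^ j) (b ^ k * a ^ i) :=
        ((cb.symm.zpow_zpow j k).mul_right (ca.symm.zpow_zpow j i))
      calc t * g * t⁻¹ * g = (b ^ k)⁻¹ * ((a ^ i)⁻¹ * c ^ j) * (b ^ k * (a ^ i * c ^ j)) := by rw [k4, ← k3]
        _ = (b ^ k)⁻¹ * (a ^ i)⁻¹ * (c ^ j * (b ^ k * a ^ i)) * c ^ j := by group
        _ = _ := by rw [d.eq, commutatorElement_def]; group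
    rw [k5]
    exact mul_mem (inv_mem (Mc (commutator_mem_commutator (zpow_mem aN _) (inv_mem (zpow_mem bP k)))))
      (mul_mem (zpow_mem (mem_zpowers c) j) (zpow_mem (mem_zpowers c) j))
  · exact key' h ht aP bP ia ab e ac bc hd.1 (mem_cent.1 hd.2 a aP).symm (mem_cent.1 hd.2 b bP).symm
      (mem_cent.1 hd.2 c hc).symm k0

end Cfsg.Agent.AC
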