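import Mathlib
import Cfsg.Agent.AC.ML

/-! The reduction of the minimal situation for the normality theorem. -/

set_option autoImplicit false
set_option linter.unusedSectionVars false

namespace Cfsg.Agent.AC

open Cfsg Cfsg.Agent.GT Cfsg.Agent.Loc Cfsg.Agent.Loc.Mss Cfsg.Agent.Loc.PU Cfsg.Agent.Loc.Blk
  Subgroup Cfsg.Agent.NF
open scoped commutatorElement

variable {G : Type*} [Group G] [Finite G]

namespace TA2

variable {𝒟 : Subgroup (MulAut G)} {H T Y : Subgroup G}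

theorem iv_res (h : IV 𝒟 H) : IV 𝒟 𝐑[2, H] :=
  iv_of_map fun σ hσ => by rw [map_pResidualOf, h.map_eq hσ]

theorem iv_core (h : IV 𝒟 H) : IV 𝒟 𝐎[2, H] :=
  iv_of_map fun σ hσ => (map_pCoreOf_le _ _).trans (by rw [h.map_eq hσ])

theorem iv_thJ (h : IV 𝒟 H) : IV 𝒟 (thJ 2 H) :=
  iv_of_map fun σ hσ => by rw [← thJ_map_equiv, h.map_eq hσ]

theorem iv_oz (h : IV 𝒟 H) : IV 𝒟 ΩZ[2, H] :=
  iv_of_map fun σ hσ => by rw [CG.map_oz σ.injective, h.map_eq hσ]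

theorem iv_ncl (h : IV 𝒟 H) (k : IV 𝒟 T) : IV 𝒟 (ncl H T) :=
  iv_of_map fun σ hσ => by rw [map_ncl, h.map_eq hσ, k.map_eq hσ]

theorem norm_J {X A : Subgroup G} (h : X ≤ 𝐍[A]) : X ≤ 𝐍[thJ 2 A] := fun g hg =>
  cj_eq_iff.1 (by rw [← thJ_map_equiv, cj_of_norm (h hg)])

/-- The `2`-elements of `O²(H)` lie in its commutator subgroup. -/
theorem inf_le_comm (hT : IsPGroup 2 T) : T ⊓ 𝐑[2, H] ≤ ⁅𝐑[2, H], 𝐑[2, H]⁆ := by
  have hX := res_res (p := 2) H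
  generalize 𝐑[2, H] = X at hX
  obtain ⟨k, m, hm, e⟩ := Nat.exists_eq_two_pow_mul_odd (Nat.card_pos (α := G)).ne'
  let φ : X →* Abelianization X := (powMonoidHom m).comp Abelianization.of
  have h1 : 𝐑[2, X] ≤ φ.ker.map X.subtype := res_le_iff.2 fun x hx hc => ⟨⟨x, hx⟩, by
    have h2 : orderOf x ∣ m :=
      (hc.pow_right k).dvd_of_dvd_mul_left (e ▸ orderOf_dvd_natCard x)
    have h3 : (⟨x, hx⟩ : X) ^ m = 1 := Subtype.ext (orderOf_dvd_iff_pow_eq_one.1 h2)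
    change Abelianization.of _ ^ m = 1
    rw [← map_pow, h3, map_one], rfl⟩
  rintro t ⟨ht, ht'⟩
  obtain ⟨x, hx, rfl⟩ := h1 (hX.ge ht')
  have h2 : x ^ m ∈ commutator X := by
    rw [← Abelianization.ker_of, MonoidHom.mem_ker, map_pow]
    exact hx
  have h3 := mem_map_of_mem X.subtype h2
  rw [commutator_def, map_commutator, map_subtype_top, map_pow] at h3
  obtain ⟨j, hj⟩ := pg_iff.1 hT _ ht
  refine zpowers_le.2 h3 (mem_zpowers_pow_iff.2 ?_)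
  exact Nat.Coprime.coprime_dvd_right (orderOf_dvd_of_pow_eq_one hj)
    ((Nat.coprime_two_right.2 hm).pow_right j)

variable (h : TA 𝒟 H T Y) (hn : ¬ H ≤ 𝐍[Y])
include h hn

theorem inf_le : T ⊓ 𝐑[2, H] ≤ 𝐎[2, H] := by
  have : Fact (Nat.Prime 2) := ⟨Nat.prime_two⟩
  have nX := le_norm_res (p := 2) H
  have nX' := norm_comm nX nX
  have iX := (iv_res h.iH).comm (iv_res h.iH)
  have l : ⁅𝐑[2, H], 𝐑[2, H]⁆ ≤ 𝐑[2, H] := comm_le_left le_normalizer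
  have l' := l.trans (res_le H)
  have h1 : ⁅𝐑[2, H], 𝐑[2, H]⁆ ≤ 𝐍[Y] := by
    rcases h.min _ le_sup_right (sup_le l' h.syl.le) (iX.sup h.iT) with h1 | h1
    · exact le_sup_left.trans h1
    · have h2 := perfect_eq_bot_of_le_solvable
        (l.antisymm (res_le_of_le_sup (h.syl.le.trans nX') h.syl.pg h1)) (res_le H) h.sol
      exact absurd (h.syl.le_of_res_le (h2.le.trans bot_le) h.nm) hn
  have s := h.syl.inf l' (h.syl.le.trans nX')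
  have h2 := s.frattini_sup l' nX'
  rcases h.min (H ⊓ 𝐍[T ⊓ ⁅𝐑[2, H], 𝐑[2, H]⁆]) (le_inf h.syl.le (norm_inf le_normalizer
    (h.syl.le.trans nX'))) inf_le_left (h.iH.inf (h.iT.inf iX).norm) with h3 | h3
  · exact absurd (h2.ge.trans (sup_le h1 h3)) hn
  · exact (le_inf inf_le_left (inf_le_comm h.syl.pg)).trans
      (le_pCoreOf (inf_le_left.trans h.syl.le) (h3.trans inf_le_right) s.pg)

theorem inf_F : T ⊓ (𝐑[2, H] ⊔ 𝐎[2, H]) = 𝐎[2, H] := by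
  have : Fact (Nat.Prime 2) := ⟨Nat.prime_two⟩
  rw [inf_comm, dedekind' ((pCoreOf_le H).trans (le_norm_res H)) h.syl.core_le, inf_comm]
  exact sup_eq_right.2 (inf_le h hn)

theorem syl_F : Syl 2 𝐎[2, H] (𝐑[2, H] ⊔ 𝐎[2, H]) := by
  have : Fact (Nat.Prime 2) := ⟨Nat.prime_two⟩
  have := h.syl.inf (sup_le (res_le (p := 2) H) (pCoreOf_le (p := 2) H))
    (h.syl.le.trans (norm_sup (le_norm_res H) (le_norm_core H)))
  rwa [inf_F h hn] at this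

theorem res_le_K : 𝐑[2, H] ≤ ⁅𝐑[2, H] ⊔ 𝐎[2, H], thJ 2 T⁆ ⊔ 𝐎[2, H] := by
  have : Fact (Nat.Prime 2) := ⟨Nat.prime_two⟩
  have e := inf_F h hn
  have RT : 𝐎[2, H] ≤ T := h.syl.core_le
  have nF : H ≤ 𝐍[𝐑[2, H] ⊔ 𝐎[2, H]] := norm_sup (le_norm_res H) (le_norm_core H)
  have FH : 𝐑[2, H] ⊔ 𝐎[2, H] ≤ H := sup_le (res_le H) (pCoreOf_le H)
  have HF : H ≤ (𝐑[2, H] ⊔ 𝐎[2, H]) ⊔ T := h.syl.sup_of_res_le le_sup_left
  have iF := (iv_res h.iH).sup (iv_core h.iH)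
  have RF : 𝐎[2, H] ≤ 𝐑[2, H] ⊔ 𝐎[2, H] := le_sup_right
  generalize 𝐑[2, H] ⊔ 𝐎[2, H] = F at *
  have JT := thJ_le 2 T
  have nJ : T ≤ 𝐍[thJ 2 T] := norm_J le_normalizer
  have nC : H ≤ 𝐍[⁅F, thJ 2 T⁆] := HF.trans (sup_le (normalizer_commutator_ge_left _ _)
    (norm_comm (h.syl.le.trans nF) nJ))
  have nK : H ≤ 𝐍[⁅F, thJ 2 T⁆ ⊔ 𝐎[2, H]] := norm_sup nC (le_norm_core H)
  have KF : ⁅F, thJ 2 T⁆ ⊔ 𝐎[2, H] ≤ F := sup_le (comm_le_left ((JT.trans h.syl.le).trans nF)) RF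
  have c1 : ⁅F, thJ 2 T⁆ ≤ ⁅F, thJ 2 T⁆ ⊔ 𝐎[2, H] := le_sup_left
  have c2 : 𝐎[2, H] ≤ ⁅F, thJ 2 T⁆ ⊔ 𝐎[2, H] := le_sup_right
  have iK := (iF.comm (iv_thJ h.iT)).sup (iv_core h.iH)
  generalize ⁅F, thJ 2 T⁆ ⊔ 𝐎[2, H] = K at *
  rcases h.min _ le_sup_right (sup_le (KF.trans FH) h.syl.le) (iK.sup h.iT) with h1 | h1
  swap
  · exact res_le_of_le_sup (h.syl.le.trans nK) h.syl.pg h1
  have l : K ⊔ thJ 2 T ≤ H := sup_le (KF.trans FH) (JT.trans h.syl.le)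
  have nL : H ≤ 𝐍[K ⊔ thJ 2 T] := HF.trans (sup_le (norm_of_forall_cj_le fun g hg => by
    rw [cj_sup, cj_of_norm (nK (FH hg))]
    exact sup_le le_sup_left ((cj_le_comm_sup _ hg).trans (sup_le_sup_right c1 _)))
    (norm_sup (h.syl.le.trans nK) nJ))
  have h2 := (h.syl.inf l (h.syl.le.trans nL)).frattini_sup l nL
  refine absurd (h2.ge.trans (sup_le ((sup_le_sup_left JT _).trans h1) (le_trans ?_ h.nj))) hn
  refine inf_le_inf_left _ ((norm_J le_rfl).trans_eq ?_)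
  rw [thJ_eq_of_le (le_inf JT le_sup_right) inf_le_left]

theorem res_le_cent : 𝐑[2, H] ≤ 𝐂[ΩZ[2, 𝐎[2, H]]] := by
  have : Fact (Nat.Prime 2) := ⟨Nat.prime_two⟩
  have RT : 𝐎[2, H] ≤ T := h.syl.core_le
  have nV : H ≤ 𝐍[ΩZ[2, 𝐎[2, H]]] := norm_oz (le_norm_core H)
  have l1 : ncl H ΩZ[2, T] ≤ ΩZ[2, 𝐎[2, H]] := ncl_le (oz_le_oz RT (h.chp.le_core
    ((oz_le T).trans h.syl.le) ((oz_le_cent T).trans (cent_anti RT)))) nV
  have l2 := l1.trans ((oz_le _).trans RT)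
  have e2 := (e2_oz _).mono l1
  have f1 := ml h.iH (iv_ncl h.iH (iv_oz h.iT)) h.sol h.ac (l2.trans h.syl.le) (le_norm_ncl _ _) e2
    (rd_ncl h.syl)
  have h1 := f1.thJ_le e2 l2 h.syl.le
  have FH : 𝐑[2, H] ⊔ 𝐎[2, H] ≤ H := sup_le (res_le H) (pCoreOf_le H)
  have h2 : 𝐑[2, H] ≤ 𝐂[ΩZ[2, T]] := ((res_le_K h hn).trans (sup_le
    ((commutator_mono le_rfl h1).trans (comm_le_right (FH.trans (norm_cent (le_norm_ncl _ _)))))
    ((le_cent_oz _).trans (cent_anti l1)))).trans (cent_anti (le_ncl _ _))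
  have s := syl_F h hn
  have c1 : (𝐎[2, H].relIndex (𝐑[2, H] ⊔ 𝐎[2, H])).Coprime 2 :=
    ((Nat.Prime.coprime_iff_not_dvd Nat.prime_two).2 s.nd).symm
  obtain ⟨k, hk⟩ := IsPGroup.iff_card.1 s.pg
  obtain ⟨X₀, a1, a2, -, a4⟩ := exists_complement_of_coprime_relIndex s.le (FH.trans (le_norm_core H))
    (by rw [hk]; exact (c1.pow_right k).symm)
  obtain ⟨j, hj⟩ := IsPGroup.iff_card.1 (e2_oz 𝐎[2, H]).pg
  have h3 := CopAct.commutator_inf_centralizer_eq_bot (ea_oz (p := 2) 𝐎[2, H]).1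
    ((a1.trans FH).trans nV) (by rw [a4, hj]; exact c1.pow_right j)
  have h4 : ⁅ΩZ[2, 𝐎[2, H]], 𝐑[2, H]⁆ ≤ ⁅ΩZ[2, 𝐎[2, H]], X₀⁆ := by
    refine (commutator_mono le_rfl (le_sup_left.trans a2.ge)).trans (comm_sup_le (norm_of_cent
      ((le_cent_oz _).trans (cent_anti (comm_le_left ((a1.trans FH).trans nV)))))
      (normalizer_commutator_ge_right _ _) ((comm_eq_bot_iff'.2 (le_cent_oz _)).le.trans bot_le) le_rfl)
  have l3 : ⁅ΩZ[2, 𝐎[2, H]], 𝐑[2, H]⁆ ≤ ΩZ[2, 𝐎[2, H]] := comm_le_left ((res_le H).trans nV)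
  refine comm_eq_bot_iff'.1 ?_
  by_contra h5
  refine th_inf_center_ne_bot h.syl.pg (l3.trans ((oz_le _).trans RT))
    (h.syl.le.trans (norm_comm nV (le_norm_res H))) h5 (eq_bot_iff.2 (le_trans ?_ h3.le))
  refine le_inf (inf_le_left.trans h4) (cent_comm (a1.trans (sup_le (h2.trans (cent_anti ?_))
    ((le_cent_oz _).trans (cent_anti (inf_le_left.trans l3))))))
  exact fun x hx => mem_oz.2 ⟨RT (oz_le _ (l3 hx.1)), hx.2, (mem_oz.1 (l3 hx.1)).2.2⟩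

end TA2

theorem TA.red {𝒟 : Subgroup (MulAut G)} {H T Y : Subgroup G} (h : TA 𝒟 H T Y)
    (hn : ¬ H ≤ 𝐍[Y]) : (𝐎[2, H].relIndex (𝐑[2, H] ⊔ 𝐎[2, H])).Coprime 2 ∧
      𝐑[2, H] ≤ ⁅𝐑[2, H] ⊔ 𝐎[2, H], thJ 2 T⁆ ⊔ 𝐎[2, H] ∧ 𝐑[2, H] ≤ 𝐂[ΩZ[2, 𝐎[2, H]]] :=
  ⟨((Nat.Prime.coprime_iff_not_dvd Nat.prime_two).2 (TA2.syl_F h hn).nd).symm, TA2.res_le_K h hn,
    TA2.res_le_cent h hn⟩

end Cfsg.Agent.AC
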